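import Mathlib.CategoryTheory.Monoidal.Cartesian.Grp
import Mathlib.CategoryTheory.Monoidal.Grp
import Mathlib.Tactic.Group

/-!
# Quotients of group objects in cartesian monoidal categories with descent along epimorphisms
-/

set_option autoImplicit false

open CategoryTheory MonoidalCategory CartesianMonoidalCategory MonObj SemiCartesianMonoidalCategory

namespace GrothLib.CartQuot

universe v u

variable {D : Type u} [Category.{v} D] [CartesianMonoidalCategory D]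

/-- epimorphisms are stable under products and admit descent -/
structure GoodEpi (D : Type u) [Category.{v} D] [CartesianMonoidalCategory D] : Prop where
  tensor : ∀ {X Y X' Y' : D} (f : X ⟶ Y) (g : X' ⟶ Y'), Epi f → Epi g → Epi (f ⊗ₘ g)
  desc : ∀ {X Y T : D} (f : X ⟶ Y), Epi f → ∀ e : X ⟶ T,
    (∀ {W : D} (a b : W ⟶ X), a ≫ f = b ≫ f → a ≫ e = b ≫ e) → ∃ d : Y ⟶ T, f ≫ d = e

variable {G : D} [GrpObj G]

theorem comp_μ {Y : D} (x : Y ⟶ G ⊗ G) : x ≫ μ[G] = (x ≫ fst G G) * (x ≫ snd G G) := by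
  rw [Hom.mul_def, lift_comp_fst_snd]

theorem comp_η {Y : D} (f : Y ⟶ 𝟙_ D) : f ≫ η[G] = 1 := by
  rw [Hom.one_def, toUnit_unique f (toUnit _)]

variable (hD : GoodEpi D) {H Q : D} [GrpObj H] (u : H ⟶ G) [IsMonHom u] (π : G ⟶ Q) [Epi π]
  (hker : ∀ {Y : D} (a b : Y ⟶ G), a ≫ π = b ≫ π ↔ ∃ h : Y ⟶ H, b = a * (h ≫ u))

include hD hker

theorem existsUnique_grpObj
    (hn : ∀ (Y : D) (g : Y ⟶ G) (h : Y ⟶ H), ∃ h' : Y ⟶ H, g * (h ≫ u) * g⁻¹ = h' ≫ u) :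
    ∃! str : GrpObj Q, @IsMonHom D _ _ G Q _ str.toMonObj π := by
  haveI : Epi (π ⊗ₘ π) := hD.tensor _ _ inferInstance inferInstance
  obtain ⟨m, hm⟩ := hD.desc (π ⊗ₘ π) inferInstance (μ[G] ≫ π) (fun {W} a b hab => by
    obtain ⟨h, hh⟩ := (hker (a ≫ fst G G) (b ≫ fst G G)).1
      (by simpa using congrArg (· ≫ fst _ _) hab)
    obtain ⟨k, hk⟩ := (hker (a ≫ snd G G) (b ≫ snd G G)).1
      (by simpa using congrArg (· ≫ snd _ _) hab)
    obtain ⟨h', hh'⟩ := hn _ (a ≫ snd G G)⁻¹ h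
    rw [← Category.assoc, ← Category.assoc, hker]
    refine ⟨h' * k, ?_⟩
    rw [comp_μ, comp_μ, hh, hk, MonObj.mul_comp, ← hh']
    group)
  obtain ⟨n, hn'⟩ := hD.desc π inferInstance (GrpObj.inv ≫ π) (fun {W} a b hab => by
    obtain ⟨h, hh⟩ := (hker a b).1 hab
    obtain ⟨h', hh'⟩ := hn _ a h⁻¹
    rw [← Category.assoc, ← Category.assoc, hker, ← Hom.inv_def, ← Hom.inv_def]
    refine ⟨h', ?_⟩
    rw [hh, ← hh', GrpObj.inv_comp]
    group)
  have hel : ∀ {Y : D} (a b : Y ⟶ G), lift (a ≫ π) (b ≫ π) ≫ m = (a * b) ≫ π := fun a b => by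
    rw [Hom.mul_def, Category.assoc, ← hm, lift_map_assoc]
  have h1 : ((η[G] ≫ π) ▷ Q) ≫ m = (λ_ Q).hom := by
    haveI : Epi (𝟙 (𝟙_ D) ⊗ₘ π) := hD.tensor _ _ inferInstance inferInstance
    rw [← cancel_epi (𝟙 (𝟙_ D) ⊗ₘ π),
      show (λ_ Q).hom = snd (𝟙_ D) Q from leftUnitor_hom Q, tensorHom_snd]
    calc (𝟙 (𝟙_ D) ⊗ₘ π) ≫ ((η[G] ≫ π) ▷ Q) ≫ m
        = lift ((fst _ _ ≫ η[G]) ≫ π) (snd _ _ ≫ π) ≫ m := by
          rw [← Category.assoc]; congr 1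
          ext <;> simp [show fst (𝟙_ D) G = toUnit _ from toUnit_unique _ _, leftUnitor_hom]
      _ = _ := by rw [hel, comp_η, _root_.one_mul]
  have h2 : (Q ◁ (η[G] ≫ π)) ≫ m = (ρ_ Q).hom := by
    haveI : Epi (π ⊗ₘ 𝟙 (𝟙_ D)) := hD.tensor _ _ inferInstance inferInstance
    rw [← cancel_epi (π ⊗ₘ 𝟙 (𝟙_ D)),
      show (ρ_ Q).hom = fst Q (𝟙_ D) from rightUnitor_hom Q, tensorHom_fst]
    calc (π ⊗ₘ 𝟙 (𝟙_ D)) ≫ (Q ◁ (η[G] ≫ π)) ≫ m
        = lift (fst _ _ ≫ π) ((snd _ _ ≫ η[G]) ≫ π) ≫ m := by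
          rw [← Category.assoc]; congr 1
          ext <;> simp [show snd G (𝟙_ D) = toUnit _ from toUnit_unique _ _, rightUnitor_hom]
      _ = _ := by rw [hel, comp_η, _root_.mul_one]
  have h3 : (m ▷ Q) ≫ m = (α_ Q Q Q).hom ≫ (Q ◁ m) ≫ m := by
    haveI : Epi ((π ⊗ₘ π) ⊗ₘ π) := hD.tensor _ _ inferInstance inferInstance
    rw [← cancel_epi ((π ⊗ₘ π) ⊗ₘ π)]
    calc ((π ⊗ₘ π) ⊗ₘ π) ≫ (m ▷ Q) ≫ m
        = lift (lift ((fst _ _ ≫ fst G G) ≫ π) ((fst _ _ ≫ snd G G) ≫ π) ≫ m) (snd _ _ ≫ π) ≫ m := by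
          rw [← Category.assoc]; congr 1
          ext
          · simp only [Category.assoc, whiskerRight_fst, lift_fst, tensorHom_fst_assoc]
            rw [← Category.assoc]; congr 1; ext <;> simp
          · simp
      _ = ((fst _ _ ≫ fst G G) * (fst _ _ ≫ snd G G) * snd _ _) ≫ π := by rw [hel, hel]
      _ = ((fst _ _ ≫ fst G G) * ((fst _ _ ≫ snd G G) * snd _ _)) ≫ π := by rw [_root_.mul_assoc]
      _ = lift ((fst _ _ ≫ fst G G) ≫ π) (lift ((fst _ _ ≫ snd G G) ≫ π) (snd _ _ ≫ π) ≫ m) ≫ m := by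
          rw [hel, hel]
      _ = ((π ⊗ₘ π) ⊗ₘ π) ≫ (α_ Q Q Q).hom ≫ (Q ◁ m) ≫ m := by
          rw [← Category.assoc ((α_ Q Q Q).hom), ← Category.assoc]; congr 1
          ext
          · simp
          · simp only [Category.assoc, whiskerLeft_snd, lift_snd]
            simp only [← Category.assoc]; congr 1; ext <;> simp
  have h4 : lift n (𝟙 Q) ≫ m = toUnit _ ≫ η[G] ≫ π := by
    rw [← cancel_epi π, comp_lift_assoc, hn', Category.comp_id, ← Category.id_comp π, ← Category.assoc,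
      hel, Category.comp_id, ← GrpObj.inv_eq_inv.symm, inv_mul_cancel, comp_toUnit_assoc,
      ← Category.assoc, comp_η, Category.id_comp]
  have h5 : lift (𝟙 Q) n ≫ m = toUnit _ ≫ η[G] ≫ π := by
    rw [← cancel_epi π, comp_lift_assoc, hn', Category.comp_id, ← Category.id_comp π, ← Category.assoc,
      hel, Category.comp_id, GrpObj.inv_eq_inv, mul_inv_cancel, comp_toUnit_assoc,
      ← Category.assoc, comp_η, Category.id_comp]
  let str : GrpObj Q := { one := η[G] ≫ π, mul := m, inv := n, one_mul := h1, mul_one := h2,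
                          mul_assoc := h3, left_inv := h4, right_inv := h5 }
  refine ⟨str, @IsMonHom.mk D _ _ G Q _ str.toMonObj π rfl hm.symm, fun str' hstr => ?_⟩
  refine GrpObj.ext _ _ (MonObj.ext _ _ ?_)
  exact (cancel_epi (π ⊗ₘ π)).1
    (((@IsMonHom.mul_hom D _ _ G Q _ str'.toMonObj π hstr).symm).trans hm.symm)

theorem existsUnique_action :
    ∃! act : G ⊗ Q ⟶ Q, (η[G] ▷ Q) ≫ act = (λ_ Q).hom ∧
      (μ[G] ▷ Q) ≫ act = (α_ G G Q).hom ≫ (G ◁ act) ≫ act ∧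
      μ[G] ≫ π = (G ◁ π) ≫ act := by
  haveI hepi : ∀ X : D, Epi (X ◁ π) := fun X => by
    rw [← id_tensorHom]; exact hD.tensor _ _ inferInstance inferInstance
  obtain ⟨m, hm⟩ := hD.desc (G ◁ π) (hepi G) (μ[G] ≫ π) (fun {W} a b hab => by
    have h0 : a ≫ fst G G = b ≫ fst G G := by simpa using congrArg (· ≫ fst _ _) hab
    obtain ⟨k, hk⟩ := (hker (a ≫ snd G G) (b ≫ snd G G)).1
      (by simpa using congrArg (· ≫ snd _ _) hab)
    rw [← Category.assoc, ← Category.assoc, hker]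
    refine ⟨k, ?_⟩
    rw [comp_μ, comp_μ, hk, h0, _root_.mul_assoc])
  refine ⟨m, ⟨?_, ?_, hm.symm⟩, fun m' hm' => (cancel_epi (G ◁ π)).1 (hm'.2.2.symm.trans hm.symm)⟩
  · rw [← cancel_epi (𝟙_ D ◁ π), whisker_exchange_assoc, hm, MonObj.one_mul_assoc,
      leftUnitor_naturality]
  · rw [← cancel_epi ((G ⊗ G) ◁ π), whisker_exchange_assoc, hm]
    calc (μ[G] ▷ G) ≫ μ[G] ≫ π = (α_ G G G).hom ≫ (G ◁ μ[G]) ≫ μ[G] ≫ π := by
          rw [← Category.assoc, MonObj.mul_assoc]; simp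
      _ = (α_ G G G).hom ≫ (G ◁ (G ◁ π)) ≫ (G ◁ m) ≫ m := by
          rw [← MonoidalCategory.whiskerLeft_comp_assoc, hm, MonoidalCategory.whiskerLeft_comp_assoc, hm]
      _ = _ := by rw [associator_naturality_right_assoc]

omit hD hker in
theorem comp_act {K Y : D} (k : K ⟶ G) (x : Y ⟶ G ⊗ K) :
    x ≫ (G ◁ k) ≫ μ[G] = (x ≫ fst G K) * (x ≫ snd G K ≫ k) := by
  rw [← Category.assoc, comp_μ]; simp

end GrothLib.CartQuot
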