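import Groth.Agent.Lib.ShfQuot.Basic
import Mathlib.CategoryTheory.Sites.CartesianMonoidal
import Mathlib.CategoryTheory.Sites.Subsheaf
import Mathlib.CategoryTheory.Limits.Shapes.KernelPair
import Mathlib.CategoryTheory.Subobject.Basic

/-!
# Elementary calculus of epimorphisms of sheaves of sets
-/

set_option autoImplicit false

open CategoryTheory Limits MonoidalCategory CartesianMonoidalCategory

namespace GrothLib.ShfQuot

universe w v u

variable {C : Type u} [Category.{v} C] {J : GrothendieckTopology C} [HasSheafify J (Type w)]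

theorem epi_of_isPullback {X Y X' Y' : Sheaf J (Type w)} {f : X ⟶ Y} {i₁ : X' ⟶ X} {i₂ : Y' ⟶ Y}
    {f' : X' ⟶ Y'} (h : IsPullback f' i₁ i₂ f) [Epi f] : Epi f' := by
  haveI : Sheaf.IsLocallySurjective f := (Sheaf.isLocallySurjective_iff_epi f).2 inferInstance
  exact (Sheaf.isLocallySurjective_iff_epi f').1 (isLocallySurjective_of_isPullback h)

theorem effectiveEpi_of_epi {X Y : Sheaf J (Type w)} (f : X ⟶ Y) [Epi f] : EffectiveEpi f := by
  rw [← isRegularEpi_iff_effectiveEpi]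
  exact IsRegularEpiCategory.regularEpiOfEpi f

theorem exists_desc {X Y T : Sheaf J (Type w)} (f : X ⟶ Y) [Epi f] (e : X ⟶ T)
    (h : ∀ {W : Sheaf J (Type w)} (a b : W ⟶ X), a ≫ f = b ≫ f → a ≫ e = b ≫ e) :
    ∃ d : Y ⟶ T, f ≫ d = e :=
  haveI := effectiveEpi_of_epi f
  ⟨EffectiveEpi.desc f e h, EffectiveEpi.fac f e h⟩

theorem exists_cover {X Y T : Sheaf J (Type w)} (f : X ⟶ Y) [Epi f] (y : T ⟶ Y) :
    ∃ (P : Sheaf J (Type w)) (c : P ⟶ T) (x : P ⟶ X), Epi c ∧ x ≫ f = c ≫ y :=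
  ⟨pullback f y, pullback.snd f y, pullback.fst f y,
    epi_of_isPullback (IsPullback.of_hasPullback f y).flip, pullback.condition⟩

theorem exists_factor {K X P T : Sheaf J (Type w)} (i : K ⟶ X) [Mono i] (c : P ⟶ T) [Epi c]
    (x : T ⟶ X) (k : P ⟶ K) (h : k ≫ i = c ≫ x) : ∃ k' : T ⟶ K, k' ≫ i = x := by
  obtain ⟨d, hd⟩ := exists_desc c k fun a b hab => by
    rw [← cancel_mono i, Category.assoc, Category.assoc, h, reassoc_of% hab]
  exact ⟨d, by rw [← cancel_epi c, reassoc_of% hd, h]⟩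

instance epi_whiskerLeft (Z : Sheaf J (Type w)) {X Y : Sheaf J (Type w)} (f : X ⟶ Y) [Epi f] :
    Epi (Z ◁ f) := by
  refine epi_of_isPullback (f := f) (i₁ := snd Z X) (i₂ := snd Z Y) ?_
  refine IsPullback.of_isLimit (c := PullbackCone.mk _ _ (whiskerLeft_snd Z f))
    (PullbackCone.IsLimit.mk _ (fun s => lift (s.fst ≫ fst Z Y) s.snd) (fun s => ?_) (fun s => by simp)
      (fun s m h₁ h₂ => ?_))
  · apply CartesianMonoidalCategory.hom_ext <;> simp [s.condition]
  · apply CartesianMonoidalCategory.hom_ext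
    · rw [lift_fst, ← h₁, Category.assoc, whiskerLeft_fst]
    · rw [lift_snd, h₂]

instance epi_whiskerRight (Z : Sheaf J (Type w)) {X Y : Sheaf J (Type w)} (f : X ⟶ Y) [Epi f] :
    Epi (f ▷ Z) := by
  refine epi_of_isPullback (f := f) (i₁ := fst X Z) (i₂ := fst Y Z) ?_
  refine IsPullback.of_isLimit (c := PullbackCone.mk _ _ (whiskerRight_fst f Z))
    (PullbackCone.IsLimit.mk _ (fun s => lift s.snd (s.fst ≫ snd Y Z)) (fun s => ?_) (fun s => by simp)
      (fun s m h₁ h₂ => ?_))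
  · apply CartesianMonoidalCategory.hom_ext <;> simp [s.condition]
  · apply CartesianMonoidalCategory.hom_ext
    · rw [lift_fst, h₂]
    · rw [lift_snd, ← h₁, Category.assoc, whiskerRight_snd]

instance epi_tensorHom {X Y X' Y' : Sheaf J (Type w)} (f : X ⟶ Y) [Epi f] (g : X' ⟶ Y') [Epi g] :
    Epi (f ⊗ₘ g) := by
  rw [MonoidalCategory.tensorHom_def]; infer_instance

omit [HasSheafify J (Type w)] in
theorem image_factor {X Y : Sheaf J (Type w)} (f : X ⟶ Y) :
    ∃ (I : Sheaf J (Type w)) (p : X ⟶ I) (i : I ⟶ Y), Epi p ∧ Mono i ∧ p ≫ i = f :=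
  ⟨Sheaf.image f, Sheaf.toImage f, Sheaf.imageι f, inferInstance, inferInstance, Sheaf.toImage_ι f⟩

/-- In the category of sheaves a quotient of an equivalence relation has the expected kernel pair. -/
theorem exists_rel_of_coequalizer {R X : Sheaf J (Type w)} {p₁ p₂ : R ⟶ X}
    (h : IsEquivalenceRelation p₁ p₂) [HasCoequalizer p₁ p₂] :
    IsKernelPair (coequalizer.π p₁ p₂) p₁ p₂ := by
  obtain ⟨e⟩ := (isUEER_sheaf p₁ p₂ (h := h)).nonempty_universallyEffectiveEquivalenceRelation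
  let φ := e.isCoequalizer.coconePointUniqueUpToIso (colimit.isColimit (parallelPair p₁ p₂))
  have hφ : e.π ≫ φ.hom = coequalizer.π p₁ p₂ :=
    e.isCoequalizer.comp_coconePointUniqueUpToIso_hom (colimit.isColimit _) WalkingParallelPair.one
  rw [← hφ]
  exact IsPullback.of_iso e.isKernelPair (Iso.refl _) (Iso.refl _) (Iso.refl _) φ (by simp) (by simp)
    (by simp) (by simp)

end GrothLib.ShfQuot
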