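import Mathlib.CategoryTheory.EquivalenceRelation
import Mathlib.CategoryTheory.Sites.RegularEpi
import Mathlib.CategoryTheory.Sites.Limits
import Mathlib.CategoryTheory.Functor.RegularEpi
import Mathlib.CategoryTheory.Sites.EpiMono

/-!
# Quotients of presheaves and sheaves of sets by equivalence relations
-/

set_option autoImplicit false

open CategoryTheory Limits Opposite

namespace GrothLib.ShfQuot

universe w v u

variable {C : Type u} [Category.{v} C]

section Presheaf

variable {R X : Cᵒᵖ ⥤ Type w}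

/-- pairs of sections satisfying a natural predicate -/
def pairs (P : ∀ U, R.obj U → R.obj U → Prop)
    (hP : ∀ ⦃U V⦄ (i : U ⟶ V) a b, P U a b → P V (R.map i a) (R.map i b)) : Cᵒᵖ ⥤ Type w where
  obj U := {ab : R.obj U × R.obj U // P U ab.1 ab.2}
  map i := ↾fun ab => ⟨(R.map i ab.1.1, R.map i ab.1.2), hP i _ _ ab.2⟩
  map_id U := by ext x <;> simp
  map_comp i j := by ext x <;> simp

/-- first projection -/
def pairsFst (P : ∀ U, R.obj U → R.obj U → Prop)
    (hP : ∀ ⦃U V⦄ (i : U ⟶ V) a b, P U a b → P V (R.map i a) (R.map i b)) : pairs P hP ⟶ R where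
  app _ := ↾fun ab => ab.1.1

/-- second projection -/
def pairsSnd (P : ∀ U, R.obj U → R.obj U → Prop)
    (hP : ∀ ⦃U V⦄ (i : U ⟶ V) a b, P U a b → P V (R.map i a) (R.map i b)) : pairs P hP ⟶ R where
  app _ := ↾fun ab => ab.1.2

variable {p₁ p₂ : R ⟶ X}

theorem injective_app (h : JointlyMono₂ p₁ p₂) (U : Cᵒᵖ) {a b : R.obj U}
    (h₁ : p₁.app U a = p₁.app U b) (h₂ : p₂.app U a = p₂.app U b) : a = b := by
  let P : ∀ U, R.obj U → R.obj U → Prop := fun U a b =>
    p₁.app U a = p₁.app U b ∧ p₂.app U a = p₂.app U b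
  have hP : ∀ ⦃U V⦄ (i : U ⟶ V) a b, P U a b → P V (R.map i a) (R.map i b) := fun U V i a b h =>
    ⟨by simp [NatTrans.naturality_apply, h.1], by simp [NatTrans.naturality_apply, h.2]⟩
  have e : pairsFst P hP = pairsSnd P hP := h.right_cancellation _ _
    (by ext V ⟨ab, h⟩; exact h.1) (by ext V ⟨ab, h⟩; exact h.2)
  exact ConcreteCategory.congr_hom (NatTrans.congr_app e U) ⟨(a, b), h₁, h₂⟩

/-- the relation on sections -/
abbrev rel (p₁ p₂ : R ⟶ X) (U : Cᵒᵖ) : X.obj U → X.obj U → Prop :=
  fun x y => ∃ r, p₁.app U r = x ∧ p₂.app U r = y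

theorem equivalence_rel (e : EquivalenceRelation p₁ p₂) (U : Cᵒᵖ) : Equivalence (rel p₁ p₂ U) where
  refl x := ⟨e.r.app U x, ConcreteCategory.congr_hom (NatTrans.congr_app e.reflexivity₁ U) x,
    ConcreteCategory.congr_hom (NatTrans.congr_app e.reflexivity₂ U) x⟩
  symm := by
    rintro x y ⟨r, hx, hy⟩
    exact ⟨e.s.app U r, (ConcreteCategory.congr_hom (NatTrans.congr_app e.symmetry₁ U) r).trans hy,
      (ConcreteCategory.congr_hom (NatTrans.congr_app e.symmetry₂ U) r).trans hx⟩
  trans := by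
    rintro x y z ⟨a, hx, hy⟩ ⟨b, hy', hz⟩
    let P : ∀ U, R.obj U → R.obj U → Prop := fun U a b => p₂.app U a = p₁.app U b
    have hP : ∀ ⦃U V⦄ (i : U ⟶ V) a b, P U a b → P V (R.map i a) (R.map i b) := fun U V i a b h => by
      change p₂.app U a = p₁.app U b at h
      simp [P, NatTrans.naturality_apply, h]
    let l := PullbackCone.IsLimit.lift e.isLimit (pairsFst P hP) (pairsSnd P hP)
      (by ext V ⟨ab, h⟩; exact h)
    have h1 : (l ≫ e.t) ≫ p₁ = pairsFst P hP ≫ p₁ := by
      rw [Category.assoc, e.toTransitiveRelation.transitivity₁]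
      exact PullbackCone.IsLimit.lift_fst_assoc e.isLimit _ _ _ _
    have h2 : (l ≫ e.t) ≫ p₂ = pairsSnd P hP ≫ p₂ := by
      rw [Category.assoc, e.toTransitiveRelation.transitivity₂]
      exact PullbackCone.IsLimit.lift_snd_assoc e.isLimit _ _ _ _
    exact ⟨(l ≫ e.t).app U ⟨(a, b), hy.trans hy'.symm⟩,
      (ConcreteCategory.congr_hom (NatTrans.congr_app h1 U) ⟨(a, b), hy.trans hy'.symm⟩).trans hx,
      (ConcreteCategory.congr_hom (NatTrans.congr_app h2 U) ⟨(a, b), hy.trans hy'.symm⟩).trans hz⟩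

/-- the presheaf quotient -/
def quot (p₁ p₂ : R ⟶ X) : Cᵒᵖ ⥤ Type w where
  obj U := Quot (rel p₁ p₂ U)
  map {U V} i := ↾Quot.map (X.map i) (fun x y ⟨r, hx, hy⟩ =>
    ⟨R.map i r, by simp [NatTrans.naturality_apply, hx], by simp [NatTrans.naturality_apply, hy]⟩)
  map_id U := by ext ⟨x⟩; simp [Quot.map]
  map_comp i j := by ext ⟨x⟩; simp [Quot.map]

/-- the quotient map -/
def quotπ (p₁ p₂ : R ⟶ X) : X ⟶ quot p₁ p₂ where
  app U := ↾(Quot.mk _)

theorem quotπ_w : p₁ ≫ quotπ p₁ p₂ = p₂ ≫ quotπ p₁ p₂ := by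
  ext U r
  exact Quot.sound ⟨r, rfl, rfl⟩

theorem isPullback_quot (e : EquivalenceRelation p₁ p₂) :
    IsPullback p₁ p₂ (quotπ p₁ p₂) (quotπ p₁ p₂) := by
  have key : ∀ (T : Cᵒᵖ ⥤ Type w) (a b : T ⟶ X), a ≫ quotπ p₁ p₂ = b ≫ quotπ p₁ p₂ →
      ∀ U (t : T.obj U), rel p₁ p₂ U (a.app U t) (b.app U t) := fun T a b w U t =>
    (equivalence_rel e U).eqvGen_iff.1
      (Quot.eqvGen_exact (ConcreteCategory.congr_hom (NatTrans.congr_app w U) t))
  refine IsPullback.of_isLimit (c := PullbackCone.mk p₁ p₂ quotπ_w)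
    (PullbackCone.IsLimit.mk quotπ_w
      (fun s => { app := fun U => ↾fun t => (key _ s.fst s.snd s.condition U t).choose, naturality := ?_ })
      (fun s => by ext U t; exact (key _ s.fst s.snd s.condition U t).choose_spec.1)
      (fun s => by ext U t; exact (key _ s.fst s.snd s.condition U t).choose_spec.2)
      (fun s m h₁ h₂ => ?_))
  · intro U V i
    ext t
    refine injective_app e.toJointlyMono₂ V ?_ ?_
    · exact (key _ s.fst s.snd s.condition V (s.pt.map i t)).choose_spec.1.trans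
        ((NatTrans.naturality_apply s.fst i t).trans ((congrArg (X.map i)
          (key _ s.fst s.snd s.condition U t).choose_spec.1.symm).trans (NatTrans.naturality_apply p₁ i _).symm))
    · exact (key _ s.fst s.snd s.condition V (s.pt.map i t)).choose_spec.2.trans
        ((NatTrans.naturality_apply s.snd i t).trans ((congrArg (X.map i)
          (key _ s.fst s.snd s.condition U t).choose_spec.2.symm).trans (NatTrans.naturality_apply p₂ i _).symm))
  · ext U t
    exact injective_app e.toJointlyMono₂ U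
      ((ConcreteCategory.congr_hom (NatTrans.congr_app h₁ U) t).trans
        (key _ s.fst s.snd s.condition U t).choose_spec.1.symm)
      ((ConcreteCategory.congr_hom (NatTrans.congr_app h₂ U) t).trans
        (key _ s.fst s.snd s.condition U t).choose_spec.2.symm)

theorem isPushout_quot (e : EquivalenceRelation p₁ p₂) :
    IsPushout p₁ p₂ (quotπ p₁ p₂) (quotπ p₁ p₂) := by
  have hab : ∀ s : PushoutCocone p₁ p₂, s.inl = s.inr := fun s => by
    have := e.r ≫= s.condition
    simpa using this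
  refine IsPushout.of_isColimit (c := PushoutCocone.mk _ _ quotπ_w)
    (PushoutCocone.IsColimit.mk quotπ_w
      (fun s => { app := fun U => ↾Quot.lift (s.inl.app U) (fun x y ⟨r, hx, hy⟩ => ?_), naturality := ?_ })
      (fun s => by ext U x; rfl)
      (fun s => by rw [← hab s]; ext U x; rfl)
      (fun s m h₁ h₂ => ?_))
  · rw [← hx, ← hy]
    conv_rhs => rw [hab s]
    exact ConcreteCategory.congr_hom (NatTrans.congr_app s.condition U) r
  · intro U V i
    ext ⟨x⟩
    exact NatTrans.naturality_apply s.inl i x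
  · ext U ⟨x⟩
    exact ConcreteCategory.congr_hom (NatTrans.congr_app h₁ U) x

theorem surjective_quotπ (U : Cᵒᵖ) : Function.Surjective ((quotπ p₁ p₂).app U) := fun q => Quot.exists_rep q

theorem universally_effectiveEpi_psh {X Y : Cᵒᵖ ⥤ Type w} (f : X ⟶ Y) [Epi f] :
    MorphismProperty.universally (fun _ _ p => EffectiveEpi p) f := by
  intro X' Y' i₁ i₂ f' h
  haveI : ∀ U, Epi (f'.app U) := fun U => by
    rw [CategoryTheory.epi_iff_surjective]
    intro y
    obtain ⟨x, hx⟩ := (CategoryTheory.epi_iff_surjective (f.app U)).1 inferInstance (i₂.app U y)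
    obtain ⟨x', h1, -⟩ := Types.exists_of_isPullback (h.map ((evaluation _ _).obj U)) y x hx.symm
    exact ⟨x', h1⟩
  haveI : Epi f' := NatTrans.epi_of_epi_app f'
  rw [← isRegularEpi_iff_effectiveEpi]
  exact IsRegularEpiCategory.regularEpiOfEpi f'

theorem isUEER_psh (p₁ p₂ : R ⟶ X) [h : IsEquivalenceRelation p₁ p₂] :
    IsUniversallyEffectiveEquivalenceRelation p₁ p₂ := by
  obtain ⟨e⟩ := h.nonempty_equivalenceRelation
  haveI : ∀ U, Epi ((quotπ p₁ p₂).app U) := fun U =>
    (CategoryTheory.epi_iff_surjective _).2 (surjective_quotπ U)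
  haveI : Epi (quotπ p₁ p₂) := NatTrans.epi_of_epi_app _
  exact ⟨⟨{ e with
    B := quot p₁ p₂
    π := quotπ p₁ p₂
    isKernelPair := isPullback_quot e
    isPushout := isPushout_quot e
    universally_effectiveEpi_π := universally_effectiveEpi_psh _ }⟩⟩

end Presheaf

section Sheaf

variable {J : GrothendieckTopology C}

theorem isLocallySurjective_of_isPullback {X Y X' Y' : Sheaf J (Type w)} {f : X ⟶ Y} {i₁ : X' ⟶ X}
    {i₂ : Y' ⟶ Y} {f' : X' ⟶ Y'} (h : IsPullback f' i₁ i₂ f) [Sheaf.IsLocallySurjective f] :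
    Sheaf.IsLocallySurjective f' := by
  refine ⟨fun {U} s => ?_⟩
  refine J.superset_covering ?_ (Presheaf.imageSieve_mem J f.hom (i₂.hom.app (op U) s))
  rintro V j ⟨t, ht⟩
  have h' := (h.map (sheafToPresheaf J (Type w))).map ((evaluation _ _).obj (op V))
  obtain ⟨x, hx, -⟩ := Types.exists_of_isPullback h' (Y'.obj.map j.op s) t
    ((NatTrans.naturality_apply i₂.hom j.op s).trans ht.symm)
  exact ⟨x, hx⟩

variable [HasSheafify J (Type w)]

theorem universally_effectiveEpi {X Y : Sheaf J (Type w)} (f : X ⟶ Y) [Epi f] :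
    MorphismProperty.universally (fun _ _ p => EffectiveEpi p) f := by
  intro X' Y' i₁ i₂ f' h
  haveI : Sheaf.IsLocallySurjective f := (Sheaf.isLocallySurjective_iff_epi f).2 inferInstance
  haveI : Sheaf.IsLocallySurjective f' := isLocallySurjective_of_isPullback h
  haveI : Epi f' := (Sheaf.isLocallySurjective_iff_epi f').1 inferInstance
  rw [← isRegularEpi_iff_effectiveEpi]
  exact IsRegularEpiCategory.regularEpiOfEpi f'

theorem isUEER_sheaf {R X : Sheaf J (Type w)} (p₁ p₂ : R ⟶ X) [h : IsEquivalenceRelation p₁ p₂] :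
    IsUniversallyEffectiveEquivalenceRelation p₁ p₂ := by
  obtain ⟨e⟩ := h.nonempty_equivalenceRelation
  let adj := sheafificationAdjunction J (Type w)
  haveI : JointlyMono₂ ((sheafToPresheaf J (Type w)).map p₁) ((sheafToPresheaf J (Type w)).map p₂) :=
    ⟨fun Y a b h₁ h₂ => (adj.homEquiv Y R).symm.injective (e.right_cancellation _ _
      (by rw [← adj.homEquiv_naturality_right_symm, ← adj.homEquiv_naturality_right_symm, h₁])
      (by rw [← adj.homEquiv_naturality_right_symm, ← adj.homEquiv_naturality_right_symm, h₂]))⟩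
  let eR := e.toReflexiveRelation.map (sheafToPresheaf J (Type w))
  let eS := e.toSymmetricRelation.map (sheafToPresheaf J (Type w))
  let eT := e.toTransitiveRelation.map (sheafToPresheaf J (Type w))
  let eP : EquivalenceRelation ((sheafToPresheaf J (Type w)).map p₁) ((sheafToPresheaf J (Type w)).map p₂) :=
    { eR, eS, eT with }
  let a := presheafToSheaf J (Type w)
  let cR := asIso (adj.counit.app R)
  let cX := asIso (adj.counit.app X)
  let q₁ := (sheafToPresheaf J (Type w)).map p₁
  let q₂ := (sheafToPresheaf J (Type w)).map p₂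
  let π : X ⟶ a.obj (quot q₁ q₂) := cX.inv ≫ a.map (quotπ q₁ q₂)
  have hk : IsKernelPair π p₁ p₂ :=
    ((isPullback_quot eP).map a).of_iso cR cX cX (Iso.refl _) (adj.counit.naturality p₁)
      (adj.counit.naturality p₂) (by simp [π, cX]; rfl) (by simp [π, cX]; rfl)
  have hp : IsPushout p₁ p₂ π π :=
    ((isPushout_quot eP).map a).of_iso cR cX cX (Iso.refl _) (adj.counit.naturality p₁)
      (adj.counit.naturality p₂) (by simp [π, cX]; rfl) (by simp [π, cX]; rfl)
  haveI : ∀ U, Epi ((quotπ q₁ q₂).app U) := fun U =>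
    (CategoryTheory.epi_iff_surjective _).2 (surjective_quotπ U)
  haveI : Epi (quotπ q₁ q₂) := NatTrans.epi_of_epi_app _
  haveI : Epi (a.map (quotπ q₁ q₂)) := inferInstance
  exact ⟨⟨{ e with
    B := _
    π := π
    isKernelPair := hk
    isPushout := hp
    universally_effectiveEpi_π := universally_effectiveEpi π }⟩⟩

end Sheaf

end GrothLib.ShfQuot
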