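import Groth.Agent.Lib.ShfQuot.CartesianQuot
import Mathlib.CategoryTheory.Subobject.Limits
import Mathlib.CategoryTheory.Limits.Shapes.Equalizers

/-!
# Subgroups of quotients in cartesian categories with descent along epimorphisms
-/

set_option autoImplicit false

open CategoryTheory Limits MonoidalCategory CartesianMonoidalCategory MonObj SemiCartesianMonoidalCategory

namespace GrothLib.CartQuot

universe v u

variable {D : Type u} [Category.{v} D] [CartesianMonoidalCategory D]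

/-- covers along epimorphisms and epi-mono factorizations exist -/
structure GoodImage (D : Type u) [Category.{v} D] [CartesianMonoidalCategory D] : Prop extends GoodEpi D where
  cover : ∀ {X Y T : D} (f : X ⟶ Y), Epi f → ∀ y : T ⟶ Y,
    ∃ (P : D) (c : P ⟶ T) (x : P ⟶ X), Epi c ∧ x ≫ f = c ≫ y
  image : ∀ {X Y : D} (f : X ⟶ Y), ∃ (I : D) (p : X ⟶ I) (i : I ⟶ Y), Epi p ∧ Mono i ∧ p ≫ i = f

theorem GoodEpi.factor (hD : GoodEpi D) {K X P T : D} (i : K ⟶ X) [Mono i] (c : P ⟶ T) [Epi c]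
    (x : T ⟶ X) (k : P ⟶ K) (h : k ≫ i = c ≫ x) : ∃ k' : T ⟶ K, k' ≫ i = x := by
  obtain ⟨d, hd⟩ := hD.desc c inferInstance k fun a b hab => by
    rw [← cancel_mono i, Category.assoc, Category.assoc, h, reassoc_of% hab]
  exact ⟨d, by rw [← cancel_epi c, reassoc_of% hd, h]⟩

theorem exists_grpObj_of_closed {G : D} [GrpObj G] {K : D} (i : K ⟶ G) [Mono i]
    (h1 : ∃ e : 𝟙_ D ⟶ K, e ≫ i = η[G])
    (hm : ∀ {Y : D} (a b : Y ⟶ K), ∃ c : Y ⟶ K, c ≫ i = (a ≫ i) * (b ≫ i))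
    (hi : ∀ {Y : D} (a : Y ⟶ K), ∃ c : Y ⟶ K, c ≫ i = (a ≫ i)⁻¹) :
    ∃ str : GrpObj K, @IsMonHom D _ _ K G str.toMonObj _ i := by
  obtain ⟨e, he⟩ := h1
  obtain ⟨m, hm'⟩ := hm (fst K K) (snd K K)
  obtain ⟨n, hn⟩ := hi (𝟙 K)
  have hel : ∀ {Y : D} (x : Y ⟶ K ⊗ K),
      x ≫ m ≫ i = (x ≫ fst K K ≫ i) * (x ≫ snd K K ≫ i) := fun x => by rw [hm', MonObj.comp_mul]
  rw [Category.id_comp] at hn
  have hone : ∀ {Y : D} (f : Y ⟶ 𝟙_ D), f ≫ e ≫ i = 1 := fun f => by rw [he, comp_η]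
  have h₁ : (e ▷ K) ≫ m = (λ_ K).hom := by
    rw [← cancel_mono i, Category.assoc, hel]; simp [hone, leftUnitor_hom]
  have h₂ : (K ◁ e) ≫ m = (ρ_ K).hom := by
    rw [← cancel_mono i, Category.assoc, hel]; simp [hone, rightUnitor_hom]
  have h₃ : (m ▷ K) ≫ m = (α_ K K K).hom ≫ (K ◁ m) ≫ m := by
    rw [← cancel_mono i]
    simp only [Category.assoc]
    rw [hel, ← Category.assoc (α_ K K K).hom, hel]
    simp [hm', MonObj.comp_mul, _root_.mul_assoc]
  have h₄ : lift n (𝟙 K) ≫ m = toUnit K ≫ e := by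
    rw [← cancel_mono i, Category.assoc, Category.assoc, hel, lift_fst_assoc, lift_snd_assoc, hone,
      Category.id_comp, hn, inv_mul_cancel]
  have h₅ : lift (𝟙 K) n ≫ m = toUnit K ≫ e := by
    rw [← cancel_mono i, Category.assoc, Category.assoc, hel, lift_fst_assoc, lift_snd_assoc, hone,
      Category.id_comp, hn, mul_inv_cancel]
  let str : GrpObj K := { one := e, mul := m, inv := n, one_mul := h₁, mul_one := h₂, mul_assoc := h₃,
                          left_inv := h₄, right_inv := h₅ }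
  refine ⟨str, @IsMonHom.mk D _ _ K G str.toMonObj _ i he ?_⟩
  change m ≫ i = (i ⊗ₘ i) ≫ μ[G]
  rw [hm', comp_μ]; simp

theorem fac_iff {X Y : D} (P : Subobject X) (f : Y ⟶ X) : P.Factors f ↔ ∃ g : Y ⟶ (P : D), g ≫ P.arrow = f :=
  ⟨fun h => ⟨P.factorThru f h, P.factorThru_arrow f h⟩, fun ⟨g, hg⟩ => hg ▸ Subobject.factors_comp_arrow g⟩

theorem mk_fac_iff {X A Y : D} (i : A ⟶ X) [Mono i] (f : Y ⟶ X) :
    (Subobject.mk i).Factors f ↔ ∃ g : Y ⟶ A, g ≫ i = f :=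
  Iff.rfl

section Correspondence

variable [HasPullbacks D] (hD : GoodImage D) {G H Q : D} [GrpObj G] [GrpObj Q] [GrpObj H]
  (u : H ⟶ G) [Mono u] (π : G ⟶ Q) [Epi π] [IsMonHom π]
  (hker : ∀ {Y : D} (a b : Y ⟶ G), a ≫ π = b ≫ π ↔ ∃ h : Y ⟶ H, b = a * (h ≫ u))

theorem mem_of_hom {G : D} [GrpObj G] (K : Subobject G) (str : GrpObj (K : D))
    (hs : @IsMonHom D _ _ _ G str.toMonObj _ K.arrow) :
    K.Factors η[G] ∧ (∀ {Y : D} (a b : Y ⟶ G), K.Factors a → K.Factors b → K.Factors (a * b)) ∧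
      ∀ {Y : D} (a : Y ⟶ G), K.Factors a → K.Factors a⁻¹ := by
  letI := str
  haveI := hs
  refine ⟨(fac_iff _ _).2 ⟨η[(K : D)], IsMonHom.one_hom _⟩, fun a b ha hb => ?_, fun a ha => ?_⟩
  · refine (fac_iff _ _).2 ⟨K.factorThru a ha * K.factorThru b hb, ?_⟩
    exact (MonObj.mul_comp _ _ K.arrow).trans (by simp)
  · refine (fac_iff _ _).2 ⟨(K.factorThru a ha)⁻¹, ?_⟩
    exact (GrpObj.inv_comp _ K.arrow).trans (by simp)

include hker in
theorem one_eq : u ≫ π = 1 := by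
  have := (hker (1 : H ⟶ G) u).2 ⟨𝟙 H, by simp⟩
  rw [← this, MonObj.one_comp]

include hD hker in
theorem bijOn :
    Set.BijOn (Subobject.pullback π).obj
      {K' : Subobject Q | ∃ str : GrpObj (K' : D), @IsMonHom D _ _ _ _ str.toMonObj _ K'.arrow}
      {K : Subobject G | Subobject.mk u ≤ K ∧
        ∃ str : GrpObj (K : D), @IsMonHom D _ _ _ _ str.toMonObj _ K.arrow} ∧
    ∀ (K' : Subobject Q) (str' : GrpObj (K' : D))
      (str : GrpObj ((Subobject.pullback π).obj K' : D)),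
      @IsMonHom D _ _ _ _ str'.toMonObj _ K'.arrow →
      @IsMonHom D _ _ _ _ str.toMonObj _ ((Subobject.pullback π).obj K').arrow →
      ((∀ (Y : D) (g : Y ⟶ Q) (k : Y ⟶ (K' : D)),
          ∃ k' : Y ⟶ (K' : D), g * (k ≫ K'.arrow) * g⁻¹ = k' ≫ K'.arrow) ↔
        (∀ (Y : D) (g : Y ⟶ G) (k : Y ⟶ ((Subobject.pullback π).obj K' : D)),
          ∃ k' : Y ⟶ ((Subobject.pullback π).obj K' : D),
            g * (k ≫ ((Subobject.pullback π).obj K').arrow) * g⁻¹ =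
              k' ≫ ((Subobject.pullback π).obj K').arrow)) := by
  have mem : ∀ (K' : Subobject Q) {Y : D} (x : Y ⟶ G),
      ((Subobject.pullback π).obj K').Factors x ↔ K'.Factors (x ≫ π) := fun K' _ x =>
    Limits.pullback_factors_iff π K' x
  refine ⟨⟨fun K' hK' => ?_, fun K₁ _ K₂ _ h => ?_, fun K hK => ?_⟩, fun K' str' str hs' hs => ?_⟩
  · obtain ⟨str, hs⟩ := hK'
    obtain ⟨h1, hm, hi⟩ := mem_of_hom K' str hs
    refine ⟨Subobject.le_of_comm (((Subobject.pullback π).obj K').factorThru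
      (Subobject.mk u).arrow ?_) (Subobject.factorThru_arrow _ _ _), ?_⟩
    · rw [mem, ← Subobject.underlyingIso_hom_comp_eq_mk, Category.assoc, one_eq u π hker, MonObj.comp_one,
        Hom.one_def]
      exact Subobject.factors_of_factors_right _ h1
    · refine exists_grpObj_of_closed _ ?_ (fun a b => ?_) (fun a => ?_)
      · have hw : ((Subobject.pullback π).obj K').Factors η[G] := by
          rw [mem, IsMonHom.one_hom]; exact h1
        exact ⟨_, Subobject.factorThru_arrow _ _ hw⟩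
      · have hw : ((Subobject.pullback π).obj K').Factors
            (a ≫ ((Subobject.pullback π).obj K').arrow * b ≫ ((Subobject.pullback π).obj K').arrow) := by
          rw [mem, MonObj.mul_comp]
          exact hm _ _ ((mem K' _).1 (Subobject.factors_comp_arrow _)) ((mem K' _).1 (Subobject.factors_comp_arrow _))
        exact ⟨_, Subobject.factorThru_arrow _ _ hw⟩
      · have hw : ((Subobject.pullback π).obj K').Factors (a ≫ ((Subobject.pullback π).obj K').arrow)⁻¹ := by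
          rw [mem, GrpObj.inv_comp]
          exact hi _ ((mem K' _).1 (Subobject.factors_comp_arrow _))
        exact ⟨_, Subobject.factorThru_arrow _ _ hw⟩
  · have le : ∀ K₁ K₂ : Subobject Q, (Subobject.pullback π).obj K₁ = (Subobject.pullback π).obj K₂ → K₁ ≤ K₂ := by
      intro K₁ K₂ h
      obtain ⟨P, c, x, _, hx⟩ := hD.cover π inferInstance K₁.arrow
      have h2 : ((Subobject.pullback π).obj K₁).Factors x := (mem _ _).2 (by rw [hx]; exact Subobject.factors_comp_arrow _)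
      rw [h, mem] at h2
      obtain ⟨k', hk'⟩ := hD.toGoodEpi.factor K₂.arrow c K₁.arrow (K₂.factorThru _ h2) (by simp [hx])
      exact Subobject.le_of_comm k' hk'
    exact le_antisymm (le _ _ h) (le _ _ h.symm)
  · obtain ⟨huK, str, hs⟩ := hK
    obtain ⟨h1, hm, hi⟩ := mem_of_hom K str hs
    obtain ⟨I, p, i, _, _, hpi⟩ := hD.image (K.arrow ≫ π)
    have key : ∀ {Y : D} (z : Y ⟶ I), ∃ (P : D) (c : P ⟶ Y) (x : P ⟶ G), Epi c ∧ K.Factors x ∧ x ≫ π = c ≫ z ≫ i := by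
      intro Y z
      obtain ⟨P, c, x, hc, hx⟩ := hD.cover p inferInstance z
      exact ⟨P, c, x ≫ K.arrow, hc, Subobject.factors_comp_arrow _, by rw [Category.assoc, ← hpi, reassoc_of% hx]⟩
    have img : ∀ {Y : D} (x : Y ⟶ G), K.Factors x → ∃ k : Y ⟶ I, k ≫ i = x ≫ π := fun x hx =>
      ⟨K.factorThru x hx ≫ p, by rw [Category.assoc, hpi]; simp⟩
    refine ⟨Subobject.mk i, ?_, le_antisymm ?_ ?_⟩
    · obtain ⟨str₀, hs₀⟩ := exists_grpObj_of_closed i
        ((img η[G] h1).imp fun k hk => by rw [hk, IsMonHom.one_hom])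
        (fun {Y} a b => by
          obtain ⟨P, c, x, _, hx, hxa⟩ := key a
          obtain ⟨P', c', y, _, hy, hyb⟩ := key (c ≫ b)
          obtain ⟨k, hk⟩ := img _ (hm _ _ (Subobject.factors_of_factors_right c' hx) hy)
          refine hD.toGoodEpi.factor i (c' ≫ c) _ k ?_
          rw [hk, MonObj.mul_comp, hyb, Category.assoc c' x, hxa, MonObj.comp_mul]
          simp)
        (fun {Y} a => by
          obtain ⟨P, c, x, _, hx, hxa⟩ := key a
          obtain ⟨k, hk⟩ := img _ (hi _ hx)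
          refine hD.toGoodEpi.factor i c _ k ?_
          rw [hk, GrpObj.inv_comp, hxa, GrpObj.comp_inv])
      obtain ⟨h1', hm', hi'⟩ : (Subobject.mk i).Factors η[Q] ∧
          (∀ {Y : D} (a b : Y ⟶ Q), (Subobject.mk i).Factors a → (Subobject.mk i).Factors b →
            (Subobject.mk i).Factors (a * b)) ∧
          ∀ {Y : D} (a : Y ⟶ Q), (Subobject.mk i).Factors a → (Subobject.mk i).Factors a⁻¹ := by
        letI := str₀
        haveI := hs₀
        refine ⟨(mk_fac_iff _ _).2 ⟨η[I], IsMonHom.one_hom _⟩, fun a b ha hb => ?_, fun a ha => ?_⟩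
        · obtain ⟨a', rfl⟩ := (mk_fac_iff _ _).1 ha
          obtain ⟨b', rfl⟩ := (mk_fac_iff _ _).1 hb
          exact (mk_fac_iff _ _).2 ⟨a' * b', MonObj.mul_comp _ _ _⟩
        · obtain ⟨a', rfl⟩ := (mk_fac_iff _ _).1 ha
          exact (mk_fac_iff _ _).2 ⟨a'⁻¹, GrpObj.inv_comp _ _⟩
      exact exists_grpObj_of_closed (Subobject.mk i).arrow ⟨_, Subobject.factorThru_arrow _ _ h1'⟩
        (fun a b => ⟨_, Subobject.factorThru_arrow _ _
          (hm' _ _ (Subobject.factors_comp_arrow a) (Subobject.factors_comp_arrow b))⟩)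
        (fun a => ⟨_, Subobject.factorThru_arrow _ _ (hi' _ (Subobject.factors_comp_arrow a))⟩)
    · set X := (Subobject.pullback π).obj (Subobject.mk i)
      obtain ⟨z, hz⟩ := (mk_fac_iff _ _).1 ((mem (Subobject.mk i) X.arrow).1 (Subobject.factors_self _))
      obtain ⟨P, c, x, _, hx, hxz⟩ := key z
      rw [hz, ← Category.assoc] at hxz
      obtain ⟨h, hh⟩ := (hker _ _).1 hxz
      have hu' : K.Factors (h ≫ u) := Subobject.factors_of_le _ huK ((mk_fac_iff _ _).2 ⟨h, rfl⟩)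
      obtain ⟨k', hk'⟩ := hD.toGoodEpi.factor K.arrow c X.arrow (K.factorThru _ (hm _ _ hx hu')) (by simp [hh])
      exact Subobject.le_of_comm k' hk'
    · have hw : ((Subobject.pullback π).obj (Subobject.mk i)).Factors K.arrow := by
        rw [mem, mk_fac_iff]; exact ⟨p, hpi⟩
      exact Subobject.le_of_comm _ (Subobject.factorThru_arrow _ _ hw)
  · constructor
    · intro hnorm Y g k
      have hw : ((Subobject.pullback π).obj K').Factors
          (g * (k ≫ ((Subobject.pullback π).obj K').arrow) * g⁻¹) := by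
        have h0 := (mem K' _).1 (Subobject.factors_comp_arrow k)
        obtain ⟨k', hk'⟩ := hnorm _ (g ≫ π) (K'.factorThru _ h0)
        rw [mem, MonObj.mul_comp, MonObj.mul_comp, GrpObj.inv_comp]
        rw [Subobject.factorThru_arrow] at hk'
        rw [hk']
        exact Subobject.factors_comp_arrow _
      exact ⟨_, (Subobject.factorThru_arrow _ _ hw).symm⟩
    · intro hnorm Y g k
      obtain ⟨P, c, g', _, hg⟩ := hD.cover π inferInstance g
      obtain ⟨P', c', x, _, hx⟩ := hD.cover π inferInstance (c ≫ k ≫ K'.arrow)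
      have hxK : ((Subobject.pullback π).obj K').Factors x := by
        rw [mem, hx, ← Category.assoc, ← Category.assoc]; exact Subobject.factors_comp_arrow _
      obtain ⟨k', hk'⟩ := hnorm _ (c' ≫ g') (((Subobject.pullback π).obj K').factorThru x hxK)
      rw [Subobject.factorThru_arrow] at hk'
      have h2 : K'.Factors ((c' ≫ g' * x * (c' ≫ g')⁻¹) ≫ π) := by
        rw [← mem, hk']; exact Subobject.factors_comp_arrow _
      obtain ⟨k₀, hk₀⟩ := hD.toGoodEpi.factor K'.arrow (c' ≫ c) (g * (k ≫ K'.arrow) * g⁻¹) (K'.factorThru _ h2) (by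
        rw [Subobject.factorThru_arrow, MonObj.mul_comp, MonObj.mul_comp, GrpObj.inv_comp, Category.assoc c',
          hg, hx, MonObj.comp_mul, MonObj.comp_mul, GrpObj.comp_inv]
        simp)
      exact ⟨k₀, hk₀.symm⟩

end Correspondence

section ThirdIso

variable (hD : GoodImage D) {G K H Q₁ QK Q₂ : D} [GrpObj G] [GrpObj K] [GrpObj H] (h : H ⟶ K) (k : K ⟶ G)
  [Mono k] [IsMonHom k] (π₁ : G ⟶ Q₁) [Epi π₁] (π' : K ⟶ QK) [Epi π'] (π₂ : G ⟶ Q₂) [Epi π₂]
  (hk₁ : ∀ {Y : D} (a b : Y ⟶ G), a ≫ π₁ = b ≫ π₁ ↔ ∃ η' : Y ⟶ H, b = a * (η' ≫ h ≫ k))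
  (hk' : ∀ {Y : D} (a b : Y ⟶ K), a ≫ π' = b ≫ π' ↔ ∃ η' : Y ⟶ H, b = a * (η' ≫ h))
  (hk₂ : ∀ {Y : D} (a b : Y ⟶ G), a ≫ π₂ = b ≫ π₂ ↔ ∃ κ : Y ⟶ K, b = a * (κ ≫ k))
  (act : Q₁ ⊗ QK ⟶ Q₁) (hact : (π₁ ⊗ₘ π') ≫ act = (G ◁ k) ≫ μ[G] ≫ π₁)
  (qbar : Q₁ ⟶ Q₂) (hq : π₁ ≫ qbar = π₂)

include hD hk₁ hk' hk₂ hact hq in
theorem third_iso : Mono (lift act (fst Q₁ QK)) ∧
    ∃ wq : fst Q₁ QK ≫ qbar = act ≫ qbar, Nonempty (IsColimit (Cofork.ofπ qbar wq)) := by
  have hel : ∀ {Y : D} (g : Y ⟶ G) (κ : Y ⟶ K),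
      lift (g ≫ π₁) (κ ≫ π') ≫ act = (g * (κ ≫ k)) ≫ π₁ := fun g κ => by
    rw [← lift_map_assoc, hact, ← Category.assoc, ← Category.assoc, Category.assoc (lift g κ), comp_act]
    simp
  refine ⟨⟨fun {W} x y hxy => ?_⟩, ?_⟩
  · have h1 : x ≫ fst _ _ = y ≫ fst _ _ := by simpa using congrArg (· ≫ snd _ _) hxy
    have h2 : x ≫ act = y ≫ act := by simpa using congrArg (· ≫ fst _ _) hxy
    obtain ⟨P, c, g, _, hg⟩ := hD.cover π₁ inferInstance (x ≫ fst _ _)
    obtain ⟨P₂, c₂, κ, _, hκ⟩ := hD.cover π' inferInstance (c ≫ x ≫ snd _ _)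
    obtain ⟨P₃, c₃, κ', _, hκ'⟩ := hD.cover π' inferInstance (c₂ ≫ c ≫ y ≫ snd _ _)
    have hX : (c₃ ≫ c₂ ≫ c) ≫ x = lift ((c₃ ≫ c₂ ≫ g) ≫ π₁) ((c₃ ≫ κ) ≫ π') := by
      apply CartesianMonoidalCategory.hom_ext <;> simp [hg, hκ]
    have hY : (c₃ ≫ c₂ ≫ c) ≫ y = lift ((c₃ ≫ c₂ ≫ g) ≫ π₁) (κ' ≫ π') := by
      apply CartesianMonoidalCategory.hom_ext <;> simp [hg, hκ', h1]
    have he : ((c₃ ≫ c₂ ≫ g) * ((c₃ ≫ κ) ≫ k)) ≫ π₁ = ((c₃ ≫ c₂ ≫ g) * (κ' ≫ k)) ≫ π₁ := by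
      rw [← hel, ← hel, ← hX, ← hY, Category.assoc _ x, Category.assoc _ y, h2]
    obtain ⟨e, he'⟩ := (hk₁ _ _).1 he
    have hκκ : κ' = (c₃ ≫ κ) * (e ≫ h) := by
      rw [← cancel_mono k, MonObj.mul_comp]
      rw [_root_.mul_assoc] at he'
      simpa using mul_left_cancel he'
    have := (hk' (c₃ ≫ κ) κ').2 ⟨e, hκκ⟩
    rw [← cancel_epi (c₃ ≫ c₂ ≫ c), hX, hY, this]
  · have wq : fst Q₁ QK ≫ qbar = act ≫ qbar := by
      haveI : Epi (π₁ ⊗ₘ π') := hD.tensor _ _ inferInstance inferInstance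
      rw [← cancel_epi (π₁ ⊗ₘ π'), tensorHom_fst_assoc, hq, reassoc_of% hact, hq, ← Category.assoc,
        ← Category.id_comp ((G ◁ k) ≫ μ[G]), comp_act, Category.id_comp, Category.id_comp, hk₂]
      exact ⟨snd G K, rfl⟩
    refine ⟨wq, ⟨Cofork.IsColimit.mk' _ fun s => Classical.indefiniteDescription _ ?_⟩⟩
    have hd : ∀ {W : D} (a b : W ⟶ G), a ≫ π₂ = b ≫ π₂ → a ≫ π₁ ≫ s.π = b ≫ π₁ ≫ s.π := by
      intro W a b hab
      obtain ⟨κ, rfl⟩ := (hk₂ a b).1 hab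
      have := lift (a ≫ π₁) (κ ≫ π') ≫= s.condition
      rw [lift_fst_assoc, reassoc_of% hel, Category.assoc] at this
      exact this
    obtain ⟨l, hl⟩ := hD.desc π₂ inferInstance (π₁ ≫ s.π) hd
    refine ⟨l, ?_, fun {m} hm => ?_⟩
    · change qbar ≫ l = s.π
      rw [← cancel_epi π₁, reassoc_of% hq, hl]
    · change qbar ≫ m = s.π at hm
      rw [← cancel_epi π₂, hl, ← hq, Category.assoc, hm]

end ThirdIso

end GrothLib.CartQuot
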