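import Groth.Agent.Lib.ShfQuot.Elements
import Groth.Agent.Lib.ShfQuot.CartesianQuot
import Mathlib.CategoryTheory.Monoidal.Cartesian.Grp
import Mathlib.CategoryTheory.Monoidal.Grp

/-!
# Quotient sheaves of groups
-/

set_option autoImplicit false

open CategoryTheory Limits MonoidalCategory CartesianMonoidalCategory MonObj SemiCartesianMonoidalCategory

namespace GrothLib.ShfQuot

universe w v u

variable {C : Type u} [Category.{v} C] {J : GrothendieckTopology C}
variable {H G : Sheaf J (Type w)} [hH : GrpObj H] [hG : GrpObj G] (u : H ⟶ G)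

theorem comp_act {Y : Sheaf J (Type w)} (x : Y ⟶ G ⊗ H) :
    x ≫ (G ◁ u) ≫ hG.mul = (x ≫ fst G H) * (x ≫ snd G H ≫ u) := by
  rw [Hom.mul_def, ← Category.assoc]
  congr 1

theorem comp_mul_whisker {Y K : Sheaf J (Type w)} (x : Y ⟶ G ⊗ K) (k : K ⟶ G) :
    x ≫ (G ◁ k) ≫ hG.mul = (x ≫ fst G K) * (x ≫ snd G K ≫ k) := by
  rw [Hom.mul_def, ← Category.assoc]
  congr 1

variable [hu : @IsMonHom (Sheaf J (Type w)) _ _ H G hH.toMonObj hG.toMonObj u] [Mono u] [HasSheafify J (Type w)]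

theorem isEquivalenceRelation_act : IsEquivalenceRelation (fst G H) ((G ◁ u) ≫ hG.mul) := by
  haveI : JointlyMono₂ (fst G H) ((G ◁ u) ≫ hG.mul) := ⟨fun Y a b h₁ h₂ => by
    rw [comp_act, comp_act, h₁] at h₂
    have h₃ := mul_left_cancel h₂
    rw [← Category.assoc, ← Category.assoc, cancel_mono] at h₃
    exact CartesianMonoidalCategory.hom_ext _ _ h₁ h₃⟩
  refine ⟨⟨{ r := lift (𝟙 G) 1, s := lift ((G ◁ u) ≫ hG.mul) (snd G H)⁻¹,
             c := PullbackCone.mk _ _ (pullback.condition (f := (G ◁ u) ≫ hG.mul) (g := fst G H)),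
             isLimit := pullbackIsPullback _ _,
             t := lift (pullback.fst _ _ ≫ fst G H)
                ((pullback.fst ((G ◁ u) ≫ hG.mul) (fst G H) ≫ snd G H) * (pullback.snd _ _ ≫ snd G H)),
             reflexivity₁ := by simp, reflexivity₂ := ?_, symmetry₁ := by simp, symmetry₂ := ?_,
             transitivity₁ := lift_fst _ _, transitivity₂ := ?_ }⟩⟩
  · rw [comp_act, lift_fst, lift_snd_assoc, MonObj.one_comp, _root_.mul_one]
  · rw [comp_act, lift_fst, lift_snd_assoc, GrpObj.inv_comp, ← Category.id_comp ((G ◁ u) ≫ hG.mul), comp_act]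
    simp
  · change lift (pullback.fst ((G ◁ u) ≫ hG.mul) (fst G H) ≫ fst G H)
        ((pullback.fst ((G ◁ u) ≫ hG.mul) (fst G H) ≫ snd G H) * (pullback.snd _ _ ≫ snd G H)) ≫
          (G ◁ u) ≫ hG.mul = pullback.snd ((G ◁ u) ≫ hG.mul) (fst G H) ≫ (G ◁ u) ≫ hG.mul
    rw [comp_act, lift_fst, lift_snd_assoc, MonObj.mul_comp, ← _root_.mul_assoc, comp_act,
      Category.assoc, Category.assoc, ← comp_act, pullback.condition]

omit hH hG hu [Mono u] in
theorem goodEpi : CartQuot.GoodEpi (Sheaf J (Type w)) where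
  tensor f g hf hg := inferInstance
  desc f hf e h := exists_desc f e h

theorem π_eq_iff {Y : Sheaf J (Type w)} (a b : Y ⟶ G) :
    a ≫ coequalizer.π (fst G H) ((G ◁ u) ≫ hG.mul) = b ≫ coequalizer.π _ _ ↔
      ∃ h : Y ⟶ H, b = a * (h ≫ u) := by
  constructor
  · intro w
    obtain ⟨r, h₁, h₂⟩ := (exists_rel_of_coequalizer (isEquivalenceRelation_act u)).exists_lift a b w
    refine ⟨r ≫ snd G H, ?_⟩
    rw [← h₂, comp_act, h₁, Category.assoc]
  · rintro ⟨h, rfl⟩
    have := (lift a h) ≫= coequalizer.condition (fst G H) ((G ◁ u) ≫ hG.mul)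
    rw [lift_fst_assoc, ← Category.assoc (lift a h) ((G ◁ u) ≫ hG.mul), comp_act, lift_fst,
      lift_snd_assoc] at this
    exact this

omit hu in
theorem exists_groupObj_of_closed {K : Sheaf J (Type w)} (i : K ⟶ G) [Mono i]
    (h1 : ∃ e : 𝟙_ (Sheaf J (Type w)) ⟶ K, e ≫ i = hG.one)
    (hm : ∀ {Y : Sheaf J (Type w)} (a b : Y ⟶ K), ∃ c : Y ⟶ K, c ≫ i = (a ≫ i) * (b ≫ i))
    (hi : ∀ {Y : Sheaf J (Type w)} (a : Y ⟶ K), ∃ c : Y ⟶ K, c ≫ i = (a ≫ i)⁻¹) :
    ∃ str : GrpObj K, @IsMonHom (Sheaf J (Type w)) _ _ K G str.toMonObj hG.toMonObj i := by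
  obtain ⟨e, he⟩ := h1
  obtain ⟨m, hm'⟩ := hm (fst K K) (snd K K)
  obtain ⟨n, hn⟩ := hi (𝟙 K)
  have hel : ∀ {Y : Sheaf J (Type w)} (x : Y ⟶ K ⊗ K),
      x ≫ m ≫ i = (x ≫ fst K K ≫ i) * (x ≫ snd K K ≫ i) := fun x => by rw [hm', MonObj.comp_mul]
  rw [Category.id_comp] at hn
  have hone : ∀ {Y : Sheaf J (Type w)} (f : Y ⟶ 𝟙_ (Sheaf J (Type w))), f ≫ e ≫ i = 1 := fun f => by
    rw [he, Hom.one_def, toUnit_unique f (toUnit _)]
  have h₁ : (e ▷ K) ≫ m = (λ_ K).hom := by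
    rw [← cancel_mono i, Category.assoc, hel]
    erw [whiskerRight_fst_assoc, hone, _root_.one_mul, whiskerRight_snd_assoc]

  have h₂ : (K ◁ e) ≫ m = (ρ_ K).hom := by
    rw [← cancel_mono i, Category.assoc, hel]
    erw [whiskerLeft_snd_assoc, hone, _root_.mul_one, whiskerLeft_fst_assoc]

  have h₃ : (m ▷ K) ≫ m = (α_ K K K).hom ≫ (K ◁ m) ≫ m := by
    rw [← cancel_mono i]
    simp only [Category.assoc]
    rw [hel, ← Category.assoc (α_ K K K).hom, hel]
    erw [whiskerRight_fst_assoc, whiskerRight_snd_assoc]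
    simp only [Category.assoc]
    erw [whiskerLeft_fst_assoc, whiskerLeft_snd_assoc]
    rw [hm', MonObj.comp_mul, MonObj.comp_mul, MonObj.comp_mul, _root_.mul_assoc]
    erw [associator_hom_fst_assoc, associator_hom_snd_fst_assoc, associator_hom_snd_snd_assoc]
  have h₄ : lift n (𝟙 K) ≫ m = toUnit K ≫ e := by
    rw [← cancel_mono i, Category.assoc, Category.assoc, hel, lift_fst_assoc, lift_snd_assoc, hone,
      Category.id_comp, hn, inv_mul_cancel]
  have h₅ : lift (𝟙 K) n ≫ m = toUnit K ≫ e := by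
    rw [← cancel_mono i, Category.assoc, Category.assoc, hel, lift_fst_assoc, lift_snd_assoc, hone,
      Category.id_comp, hn, mul_inv_cancel]
  let str : GrpObj K := { one := e, mul := m, inv := n, one_mul := h₁, mul_one := h₂, mul_assoc := h₃,
                          left_inv := h₄, right_inv := h₅ }
  refine ⟨str, @IsMonHom.mk (Sheaf J (Type w)) _ _ K G str.toMonObj hG.toMonObj i he ?_⟩
  change m ≫ i = (i ⊗ₘ i) ≫ hG.mul
  rw [hm', Hom.mul_def]
  congr 1

end GrothLib.ShfQuot
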